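import Cfsg.Agent.S0799
import Cfsg.Agent.S0801

/-!
# A small family of subgroups of `PSL₂(k)`, `k` odd (helper276)

Every proper subgroup `X ≠ 1` of `L = PSL₂(K)` has a subgroup (or an overgroup) `S`, `1 < S < L`, invariant under the
automorphisms of `L` leaving `X` invariant, of one of the forms: cyclic, Sylow `p`-subgroup, `⟨u, v⟩` with `u² = 1` or
`u ^ p = 1`.
-/

set_option autoImplicit false
set_option linter.style.haveILetI false
set_option linter.unusedSectionVars false

namespace Cfsg.Agent.H276.EP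

open Subgroup MulAction OnePoint
open Cfsg.Agent.ClassicalGeometry.PoleCount Cfsg.Agent.ClassicalGeometry.PoleCount.Pole
open Cfsg.Agent.ClassicalGeometry.PoleBridge
open Cfsg.Agent.ClassicalGeometry.PoleCases
open Cfsg.Agent.ClassicalGeometry.PSL2Basic Cfsg.Agent.ClassicalGeometry.PSL2ElemOrder
open Cfsg.Agent.Lib.Mobius
open Cfsg.Agent.LieClassical.SLTwoUnipotent (u l coe_u coe_l u_add l_add u_zero l_zero)

local notation "SL2" => Matrix.SpecialLinearGroup (Fin 2)
local notation "PSL2" => Matrix.ProjectiveSpecialLinearGroup (Fin 2)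

/-! ### the tame case of Dickson's theorem -/

theorem tame {F : Type*} [Field F] (p : ℕ) [Fact p.Prime] [CharP F p] [Finite F]
    (H : Subgroup (PSL2 F)) (hp : ¬ p ∣ Nat.card H) :
    IsCyclic H ∨ (∃ k : ℕ, Nonempty (H ≃* DihedralGroup k)) ∨ Nonempty (H ≃* alternatingGroup (Fin 4)) ∨
      Nonempty (H ≃* Equiv.Perm (Fin 4)) ∨ Nonempty (H ≃* alternatingGroup (Fin 5)) := by
  classical
  let K := AlgebraicClosure F
  haveI : CharP K p := charP_of_injective_algebraMap (algebraMap F K).injective p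
  let ι : F →+* K := algebraMap F K
  let φ : H →* PSL2 K := (pslMap ι).comp H.subtype
  have hφ : Function.Injective φ := (pslMap_injective ι).comp H.subtype_injective
  letI := act φ
  have pole : Pole p K H (OnePoint K) := pole_of_injective p φ hφ
  have hpow : ∀ g : H, g ≠ 1 → g ^ p ≠ 1 := by
    intro g hg hgp
    apply hp
    rw [← orderOf_eq_prime hgp hg]
    exact orderOf_dvd_natCard g
  have hcyc : ∀ x : OnePoint K, IsCyclic (stabilizer H x) := by
    intro x
    obtain ⟨χ, hχ⟩ := pole.chi x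
    have hinj : Function.Injective χ := by
      rw [injective_iff_map_eq_one]
      intro g hg
      by_contra hne
      have h1 := (hχ g).mp hg
      exact hpow g (fun h => hne (Subtype.ext h)) (congrArg Subtype.val h1)
    have hcoe : Function.Injective (Units.coeHom K) := Units.val_injective
    exact isCyclic_of_injective_ringHom ((Units.coeHom K).comp χ) (hcoe.comp hinj)
  rcases Cfsg.Agent.ClassicalGeometry.PolePrime.pole_prime
    (fun (g : H) hg => pole.two g (hpow g hg)) hcyc with h1 | ⟨k, -, h1⟩ | h1 | h1 | h1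
  · exact Or.inl h1
  · exact Or.inr (Or.inl ⟨k, h1⟩)
  · exact Or.inr (Or.inr (Or.inl h1))
  · exact Or.inr (Or.inr (Or.inr (Or.inl h1)))
  · exact Or.inr (Or.inr (Or.inr (Or.inr h1)))

/-! ### groups with two generators, one an involution -/

/-- generated by `u`, `v` with `u² = 1` -/
def InvGen (G : Type*) [Group G] : Prop := ∃ u v : G, u ^ 2 = 1 ∧ closure ({u, v} : Set G) = ⊤

theorem InvGen.congr {G H : Type*} [Group G] [Group H] (e : G ≃* H) (h : InvGen H) : InvGen G := by
  obtain ⟨u, v, h1, h2⟩ := h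
  refine ⟨e.symm u, e.symm v, by rw [← map_pow, h1, map_one], ?_⟩
  have h3 := congrArg (Subgroup.map e.symm.toMonoidHom) h2
  rw [MonoidHom.map_closure, ← MonoidHom.range_eq_map, MonoidHom.range_eq_top.2 e.symm.surjective] at h3
  rw [← h3]
  congr 1
  rw [Set.image_pair]
  rfl

theorem invGen_dihedral (k : ℕ) : InvGen (DihedralGroup k) := by
  refine ⟨DihedralGroup.sr 0, DihedralGroup.sr 1, ?_, ?_⟩
  · rw [pow_two, DihedralGroup.sr_mul_self]
  · rw [Subgroup.eq_top_iff']
    have h0 : (DihedralGroup.sr 0 : DihedralGroup k) ∈ closure ({DihedralGroup.sr 0, DihedralGroup.sr 1} : Set _) :=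
      subset_closure (by simp)
    have h1 : (DihedralGroup.sr 1 : DihedralGroup k) ∈ closure ({DihedralGroup.sr 0, DihedralGroup.sr 1} : Set _) :=
      subset_closure (by simp)
    have h2 : (DihedralGroup.r 1 : DihedralGroup k) ∈ closure ({DihedralGroup.sr 0, DihedralGroup.sr 1} : Set _) := by
      have := mul_mem h0 h1
      rwa [DihedralGroup.sr_mul_sr, sub_zero] at this
    have h3 : ∀ i : ZMod k, (DihedralGroup.r i : DihedralGroup k) ∈
        closure ({DihedralGroup.sr 0, DihedralGroup.sr 1} : Set _) := by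
      intro i
      obtain ⟨z, rfl⟩ := ZMod.intCast_surjective i
      rw [← DihedralGroup.r_one_zpow]
      exact zpow_mem h2 z
    rintro (i | i)
    · exact h3 i
    · have := mul_mem h0 (h3 i)
      rwa [DihedralGroup.sr_mul_r, zero_add] at this

theorem invGen_alt4 : InvGen (alternatingGroup (Fin 4)) := by
  let u : alternatingGroup (Fin 4) := ⟨Equiv.swap 0 1 * Equiv.swap 2 3, by rw [Equiv.Perm.mem_alternatingGroup]; decide⟩
  let v : alternatingGroup (Fin 4) := ⟨Equiv.swap 0 1 * Equiv.swap 1 2, by rw [Equiv.Perm.mem_alternatingGroup]; decide⟩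
  have key : ∀ g : alternatingGroup (Fin 4), ∃ i : Fin 3, ∃ j : Fin 2, ∃ k : Fin 3,
      g = v ^ (i : ℕ) * u ^ (j : ℕ) * v ^ (k : ℕ) := by decide +kernel
  refine ⟨u, v, by decide +kernel, ?_⟩
  rw [Subgroup.eq_top_iff']
  intro g
  obtain ⟨i, j, k, rfl⟩ := key g
  have h0 : u ∈ closure ({u, v} : Set (alternatingGroup (Fin 4))) := subset_closure (by simp)
  have h1 : v ∈ closure ({u, v} : Set (alternatingGroup (Fin 4))) := subset_closure (by simp)
  exact mul_mem (mul_mem (pow_mem h1 _) (pow_mem h0 _)) (pow_mem h1 _)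

theorem invGen_perm4 : InvGen (Equiv.Perm (Fin 4)) := by
  have h := Equiv.Perm.closure_cycle_adjacent_swap (isCycle_finRotate (n := 2)) support_finRotate 0
  refine ⟨Equiv.swap 0 (finRotate 4 0), finRotate 4, ?_, ?_⟩
  · rw [pow_two, Equiv.swap_mul_self]
  · rw [Set.pair_comm]
    exact h

theorem invGen_alt5 : InvGen (alternatingGroup (Fin 5)) := by
  let u : alternatingGroup (Fin 5) := ⟨Equiv.swap 0 1 * Equiv.swap 2 3, by rw [Equiv.Perm.mem_alternatingGroup]; decide⟩
  let v : alternatingGroup (Fin 5) := ⟨finRotate 5, by rw [Equiv.Perm.mem_alternatingGroup]; decide⟩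
  refine ⟨u, v, by decide +kernel, ?_⟩
  set H := closure ({u, v} : Set (alternatingGroup (Fin 5))) with hH
  have h0 : u ∈ H := subset_closure (by simp)
  have h1 : v ∈ H := subset_closure (by simp)
  have hcard : Nat.card (alternatingGroup (Fin 5)) = 60 := by
    rw [Nat.card_eq_fintype_card]
    decide +kernel
  have o2 : orderOf u = 2 := orderOf_eq_prime (by decide +kernel) (by decide +kernel)
  have : Fact (Nat.Prime 3) := ⟨by norm_num⟩
  have : Fact (Nat.Prime 5) := ⟨by norm_num⟩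
  have o5 : orderOf v = 5 := orderOf_eq_prime (by decide +kernel) (by decide +kernel)
  have o3 : orderOf (u * v) = 3 := orderOf_eq_prime (by decide +kernel) (by decide +kernel)
  have d2 : 2 ∣ Nat.card H := by
    have h := orderOf_dvd_natCard (⟨u, h0⟩ : H)
    rwa [Subgroup.orderOf_mk, o2] at h
  have d5 : 5 ∣ Nat.card H := by
    have h := orderOf_dvd_natCard (⟨v, h1⟩ : H)
    rwa [Subgroup.orderOf_mk, o5] at h
  have d3 : 3 ∣ Nat.card H := by
    have h := orderOf_dvd_natCard (⟨u * v, mul_mem h0 h1⟩ : H)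
    rwa [Subgroup.orderOf_mk, o3] at h
  have hm := H.card_mul_index
  rw [hcard] at hm
  have h30 : 30 ∣ Nat.card H := by omega
  obtain ⟨c, hc⟩ := h30
  rw [hc] at hm
  have hci : c * H.index = 2 := by
    have : 30 * (c * H.index) = 30 * 2 := by rw [← mul_assoc, hm]
    exact Nat.eq_of_mul_eq_mul_left (by norm_num) this
  have hi : H.index ∣ 2 := ⟨c, by rw [← hci, mul_comm]⟩
  rcases (Nat.dvd_prime Nat.prime_two).1 hi with h2 | h2
  · exact Subgroup.index_eq_one.1 h2
  · exfalso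
    have hn : H.Normal := Subgroup.normal_of_index_eq_two h2
    have hs : IsSimpleGroup (alternatingGroup (Fin 5)) := inferInstance
    rcases hn.eq_bot_or_eq_top with h3 | h3
    · rw [h3, Subgroup.index_bot, hcard] at h2
      omega
    · rw [h3, Subgroup.index_top] at h2
      omega

/-! ### `PSL₂(K)` and `PGL₂(K)` -/

/-- the elements with `g ^ p = 1` generate a subgroup generated by two of them -/
def PGen (p : ℕ) (G : Type*) [Group G] : Prop :=
  ∃ u v : G, u ^ p = 1 ∧ v ^ p = 1 ∧ u ≠ 1 ∧ ∀ g : G, g ^ p = 1 → g ∈ closure ({u, v} : Set G)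

theorem PGen.congr {p : ℕ} {G H : Type*} [Group G] [Group H] (e : G ≃* H) (h : PGen p H) : PGen p G := by
  obtain ⟨u, v, h1, h2, h3, h4⟩ := h
  refine ⟨e.symm u, e.symm v, by rw [← map_pow, h1, map_one], by rw [← map_pow, h2, map_one],
    fun h => h3 ((map_eq_one_iff e.symm e.symm.injective).1 h), fun g hg => ?_⟩
  have h5 := h4 (e g) (by rw [← map_pow, hg, map_one])
  have h6 : e.symm (e g) ∈ (closure ({u, v} : Set H)).map e.symm.toMonoidHom := ⟨_, h5, rfl⟩
  rw [MonoidHom.map_closure, e.symm_apply_apply, Set.image_pair] at h6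
  exact h6

section Field

variable {K : Type*} [Field K]

theorem l_pow (n : ℕ) (x : K) : (l x : SL2 K) ^ n = l (n • x) := by
  induction n with
  | zero => rw [pow_zero, zero_smul, l_zero]
  | succ n ih => rw [pow_succ, ih, ← l_add, succ_nsmul]

theorem u_pow (n : ℕ) (x : K) : (u x : SL2 K) ^ n = u (n • x) := by
  induction n with
  | zero => rw [pow_zero, zero_smul, u_zero]
  | succ n ih => rw [pow_succ, ih, ← u_add, succ_nsmul]

theorem sl_gen [Finite K] (h2 : (2 : K) ≠ 0) :
    ∃ c : K, closure ({l 1, u c} : Set (SL2 K)) = ⊤ := by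
  letI := Fintype.ofFinite K
  obtain ⟨g, hg⟩ := IsCyclic.exists_generator (α := Kˣ)
  have hgen : Subfield.closure ({(g : K)} : Set K) = ⊤ := by
    rw [eq_top_iff]
    intro x _
    by_cases hx : x = 0
    · rw [hx]
      exact zero_mem _
    · obtain ⟨z, hz⟩ := Subgroup.mem_zpowers_iff.1 (hg (Units.mk0 x hx))
      have : x = (g : K) ^ z := by
        have := congrArg (fun y : Kˣ => (y : K)) hz
        simp only [Units.val_zpow_eq_zpow_val, Units.val_mk0] at this
        exact this.symm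
      rw [this]
      exact zpow_mem (Subfield.subset_closure (Set.mem_singleton _)) z
  refine ⟨g, ?_⟩
  have h := Cfsg.Agent.S0801.result h2 (g : K) g.ne_zero hgen
  rw [Cfsg.Agent.S0801.closure_set_eq] at h
  rcases h with h | ⟨h9, hsq, -⟩
  · exact h.1
  · exfalso
    have h4 : g ^ 4 = 1 := by
      apply Units.ext
      rw [Units.val_pow_eq_pow_val, Units.val_one, show (4 : ℕ) = 2 * 2 by norm_num, pow_mul, hsq]
      norm_num
    have h5 := orderOf_dvd_of_pow_eq_one h4
    rw [orderOf_eq_card_of_forall_mem_zpowers hg, Nat.card_units, Nat.card_eq_fintype_card, h9] at h5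
    exact absurd (Nat.le_of_dvd (by norm_num) h5) (by norm_num)

variable (p : ℕ) [hp : Fact p.Prime] [CharP K p]

theorem pGen_of_hom [Finite K] (h2 : (2 : K) ≠ 0) {G : Type*} [Group G] (φ : SL2 K →* G) (h1 : φ (l 1) ≠ 1)
    (hr : ∀ g : G, g ^ p = 1 → g ∈ φ.range) : PGen p G := by
  obtain ⟨c, hc⟩ := sl_gen (K := K) h2
  have hl : (l (1 : K) : SL2 K) ^ p = 1 := by
    rw [l_pow, nsmul_eq_mul, CharP.cast_eq_zero, zero_mul, l_zero]
  have hu : (u c : SL2 K) ^ p = 1 := by
    rw [u_pow, nsmul_eq_mul, CharP.cast_eq_zero, zero_mul, u_zero]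
  refine ⟨φ (l 1), φ (u c), by rw [← map_pow, hl, map_one], by rw [← map_pow, hu, map_one], h1, fun g hg => ?_⟩
  have h3 := hr g hg
  rw [MonoidHom.range_eq_map, ← hc, MonoidHom.map_closure, Set.image_pair] at h3
  exact h3

theorem pGen_psl [Finite K] (h2 : (2 : K) ≠ 0) : PGen p (PSL2 K) := by
  refine pGen_of_hom p h2 (QuotientGroup.mk' (Subgroup.center (SL2 K))) ?_ ?_
  · intro h
    rw [QuotientGroup.mk'_apply, QuotientGroup.eq_one_iff, mem_center_SL2_iff] at h
    rcases h with h | h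
    · have := congrArg (fun A : SL2 K => (A : Matrix (Fin 2) (Fin 2) K) 1 0) h
      simp [coe_l] at this
    · have := congrArg (fun A : SL2 K => (A : Matrix (Fin 2) (Fin 2) K) 1 0) h
      simp [coe_l] at this
  · intro g _
    rw [MonoidHom.range_eq_top.2 (QuotientGroup.mk'_surjective _)]
    exact mem_top _

theorem pGen_pgl [Finite K] (h2 : (2 : K) ≠ 0) : PGen p (Matrix.ProjGenLinGroup (Fin 2) K) := by
  refine pGen_of_hom p h2 (Matrix.ProjGenLinGroup.mk.comp Matrix.SpecialLinearGroup.toGL) ?_ ?_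
  · intro h
    rw [MonoidHom.comp_apply, Matrix.ProjGenLinGroup.mk_eq_one, Matrix.GeneralLinearGroup.center_eq_range_scalar] at h
    obtain ⟨c, hc⟩ := h
    have := congrArg (fun A : GL (Fin 2) K => (A : Matrix (Fin 2) (Fin 2) K) 1 0) hc
    simp [coe_l] at this
  · intro g hg
    induction g using Matrix.ProjGenLinGroup.induction_on with | mk M =>
    rw [← map_pow, Matrix.ProjGenLinGroup.mk_eq_one, Matrix.GeneralLinearGroup.center_eq_range_scalar] at hg
    obtain ⟨c, hc⟩ := hg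
    have h3 := congrArg Matrix.GeneralLinearGroup.det hc
    rw [Matrix.GeneralLinearGroup.det_scalar, Fintype.card_fin, map_pow] at h3
    -- the determinant is a square
    have hodd : Odd p := by
      refine hp.out.odd_of_ne_two ?_
      rintro rfl
      exact h2 (by exact_mod_cast CharP.cast_eq_zero K 2)
    obtain ⟨m, hm⟩ := hodd
    set D := Matrix.GeneralLinearGroup.det M with hD
    have h4 : D = (c * (D ^ m)⁻¹) ^ 2 := by
      rw [mul_pow, h3, hm, inv_pow, ← pow_mul, mul_comm m 2, pow_succ', mul_inv_cancel_right]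
    set d := c * (D ^ m)⁻¹ with hd
    have h5 : M * Matrix.GeneralLinearGroup.scalar (Fin 2) d⁻¹ ∈
        (Matrix.SpecialLinearGroup.toGL : SL2 K →* GL (Fin 2) K).range := by
      rw [range_toGL, MonoidHom.mem_ker, map_mul, Matrix.GeneralLinearGroup.det_scalar, Fintype.card_fin, ← hD, h4,
        inv_pow, mul_inv_cancel]
    obtain ⟨M', hM'⟩ := h5
    refine ⟨M', ?_⟩
    rw [MonoidHom.comp_apply, hM', map_mul, Matrix.ProjGenLinGroup.mk_scalar, mul_one]

end Field

/-! ### the family -/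

section Fam

variable {L : Type*} [Group L]

/-- cyclic subgroups, Sylow `p`-subgroups, `⟨u, v⟩` with `u² = 1` or `u ^ p = 1` -/
def Fam (p : ℕ) (L : Type*) [Group L] : Set (Subgroup L) :=
  Set.range (fun g : L => zpowers g) ∪ Set.range (fun P : Sylow p L => (P : Subgroup L)) ∪
    Set.image2 (fun u v : L => closure ({u, v} : Set L)) {u | u ^ 2 = 1 ∨ u ^ p = 1} Set.univ

/-- `S` belongs to `X` -/
def Belongs (p : ℕ) (X : Subgroup L) : Prop := ∃ S ∈ Fam p L, S ≠ ⊥ ∧ S ≠ ⊤ ∧
  ∀ τ : MulAut L, (∀ l ∈ X, τ l ∈ X) → ∀ s ∈ S, τ s ∈ S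

theorem belongs_of_isCyclic {p : ℕ} {X : Subgroup L} (h1 : X ≠ ⊥) (h2 : X ≠ ⊤) (hc : IsCyclic X) : Belongs p X := by
  obtain ⟨⟨g, hgX⟩, hg⟩ := hc.exists_generator
  have hX : zpowers g = X := by
    apply le_antisymm
    · rw [zpowers_le]
      exact hgX
    · intro x hx
      obtain ⟨z, hz⟩ := mem_zpowers_iff.1 (hg ⟨x, hx⟩)
      exact mem_zpowers_iff.2 ⟨z, congrArg Subtype.val hz⟩
  exact ⟨X, Or.inl (Or.inl ⟨g, hX⟩), h1, h2, fun τ hτ => hτ⟩

theorem closure_val {X : Subgroup L} (u v : X) :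
    closure ({(u : L), (v : L)} : Set L) = (closure ({u, v} : Set X)).map X.subtype := by
  rw [MonoidHom.map_closure, Set.image_pair]
  rfl

theorem belongs_of_invGen {p : ℕ} {X : Subgroup L} (h1 : X ≠ ⊥) (h2 : X ≠ ⊤) (hc : InvGen X) : Belongs p X := by
  obtain ⟨u, v, hu, huv⟩ := hc
  have hX : closure ({(u : L), (v : L)} : Set L) = X := by
    rw [closure_val, huv, ← MonoidHom.range_eq_map, Subgroup.range_subtype]
  exact ⟨X, Or.inr ⟨u, Or.inl (by rw [← Subgroup.coe_pow, hu, Subgroup.coe_one]), v, Set.mem_univ _, hX⟩, h1, h2,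
    fun τ hτ => hτ⟩

theorem belongs_of_pGen {p : ℕ} {X : Subgroup L} (h2 : X ≠ ⊤) (hc : PGen p X) : Belongs p X := by
  obtain ⟨u, v, hu, hv, hu1, hg⟩ := hc
  have hle : closure ({(u : L), (v : L)} : Set L) ≤ X := by
    rw [closure_le]
    rintro x (rfl | rfl)
    · exact u.2
    · exact v.2
  have hg' : ∀ g ∈ X, g ^ p = 1 → g ∈ closure ({(u : L), (v : L)} : Set L) := by
    intro g hgX hgp
    rw [closure_val]
    exact ⟨⟨g, hgX⟩, hg ⟨g, hgX⟩ (Subtype.ext hgp), rfl⟩
  have hu' : (u : L) ^ p = 1 := by rw [← Subgroup.coe_pow, hu, Subgroup.coe_one]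
  have hv' : (v : L) ^ p = 1 := by rw [← Subgroup.coe_pow, hv, Subgroup.coe_one]
  refine ⟨_, Or.inr ⟨u, Or.inr hu', v, Set.mem_univ _, rfl⟩, ?_, ?_, ?_⟩
  · intro e
    apply hu1
    have : (u : L) ∈ closure ({(u : L), (v : L)} : Set L) := subset_closure (by simp)
    change closure ({(u : L), (v : L)} : Set L) = ⊥ at e
    rw [e, mem_bot] at this
    exact Subtype.ext this
  · intro e
    apply h2
    change closure ({(u : L), (v : L)} : Set L) = ⊤ at e
    rw [eq_top_iff, ← e]
    exact hle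
  · intro τ hτ s hs
    change s ∈ closure ({(u : L), (v : L)} : Set L) at hs
    have h3 : closure ({(u : L), (v : L)} : Set L) ≤ (closure ({(u : L), (v : L)} : Set L)).comap τ.toMonoidHom := by
      rw [closure_le]
      rintro x (rfl | rfl)
      · exact hg' _ (hτ _ u.2) (by
          show (τ (u : L)) ^ p = 1
          rw [← map_pow, hu', map_one])
      · exact hg' _ (hτ _ v.2) (by
          show (τ (v : L)) ^ p = 1
          rw [← map_pow, hv', map_one])
    exact h3 hs

end Fam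

section Psl

variable {K : Type*} [Field K] [Fintype K] (p : ℕ) [hp : Fact p.Prime] [CharP K p]

theorem belongs_of_borel (hs : IsSimpleGroup (PSL2 K)) (hn : ¬ ∀ a b : PSL2 K, a * b = b * a)
    {X : Subgroup (PSL2 K)} (hX : p ∣ Nat.card X) (P : Sylow p (PSL2 K)) {Y : Subgroup (PSL2 K)}
    (hY : Y ≤ Subgroup.normalizer ((P : Subgroup (PSL2 K)) : Set (PSL2 K))) (e : X ≃* Y) : Belongs p X := by
  classical
  -- the elements of `p`-power order of `X`
  set R : Subgroup (PSL2 K) := ((((P : Subgroup (PSL2 K)).subgroupOf Y).comap e.toMonoidHom).map X.subtype) with hR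
  have hmem : ∀ x (hx : x ∈ X), ((e ⟨x, hx⟩ : Y) : PSL2 K) ∈ (P : Subgroup (PSL2 K)) → x ∈ R := by
    intro x hx h
    exact ⟨⟨x, hx⟩, h, rfl⟩
  have hRp : IsPGroup p R := by
    have h1 : IsPGroup p ((P : Subgroup (PSL2 K)).subgroupOf Y) := P.2.comap_subtype
    exact (h1.comap_of_injective e.toMonoidHom e.injective).map X.subtype
  have key : ∀ x ∈ X, (∃ k : ℕ, x ^ p ^ k = 1) → x ∈ R := by
    rintro x hx ⟨k, hk⟩
    apply hmem x hx
    set y : PSL2 K := ((e ⟨x, hx⟩ : Y) : PSL2 K) with hy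
    have hyk : y ^ p ^ k = 1 := by
      rw [hy, ← Subgroup.coe_pow, ← map_pow]
      have : (⟨x, hx⟩ : X) ^ p ^ k = 1 := Subtype.ext hk
      rw [this, map_one, Subgroup.coe_one]
    have hz : IsPGroup p (zpowers y) := by
      rintro ⟨_, n, rfl⟩
      refine ⟨k, Subtype.ext ?_⟩
      show (y ^ n) ^ p ^ k = 1
      rw [← zpow_natCast, ← zpow_mul, mul_comm, zpow_mul, zpow_natCast, hyk, one_zpow]
    have h1 := hz.inf_normalizer_sylow P
    have h2 : y ∈ zpowers y ⊓ Subgroup.normalizer ((P : Subgroup (PSL2 K)) : Set (PSL2 K)) :=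
      ⟨mem_zpowers y, hY (e ⟨x, hx⟩).2⟩
    exact (h1.le h2).2
  obtain ⟨P₁, hP₁⟩ := hRp.exists_le_sylow
  obtain ⟨⟨x₀, hx₀X⟩, hx₀⟩ := exists_prime_orderOf_dvd_card' p hX
  have hx₀p : x₀ ^ p = 1 := by
    rw [Subgroup.orderOf_mk] at hx₀
    rw [← hx₀]
    exact pow_orderOf_eq_one x₀
  have hx₀1 : x₀ ≠ 1 := by
    rintro rfl
    rw [Subgroup.orderOf_mk, orderOf_one] at hx₀
    exact hp.out.one_lt.ne hx₀
  refine ⟨P₁, Or.inl (Or.inr ⟨P₁, rfl⟩), ?_, ?_, ?_⟩
  · intro h
    have h1 := hP₁ (key x₀ hx₀X ⟨1, by rw [pow_one, hx₀p]⟩)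
    rw [h, mem_bot] at h1
    exact hx₀1 h1
  · intro h
    have h1 : IsPGroup p (PSL2 K) := by
      intro g
      obtain ⟨k, hk⟩ := P₁.2 ⟨g, by rw [h]; exact mem_top _⟩
      exact ⟨k, congrArg Subtype.val hk⟩
    haveI := hs.toNontrivial
    have h2 := h1.center_nontrivial
    rcases (inferInstance : (Subgroup.center (PSL2 K)).Normal).eq_bot_or_eq_top with h3 | h3
    · rw [h3] at h2
      exact not_nontrivial _ h2
    · apply hn
      intro a b
      have h4 : a ∈ Subgroup.center (PSL2 K) := by rw [h3]; exact mem_top _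
      exact ((mem_center_iff.1 h4) b).symm
  · intro τ hτ s hs'
    have h1 : τ x₀ ∈ R := key _ (hτ _ hx₀X) ⟨1, by rw [pow_one, ← map_pow, hx₀p, map_one]⟩
    have h2 : τ x₀ ∈ ((τ • P₁ : Sylow p (PSL2 K)) : Subgroup (PSL2 K)) := by
      rw [Sylow.pointwise_smul_def]
      exact Subgroup.smul_mem_pointwise_smul _ τ _ (hP₁ (key x₀ hx₀X ⟨1, by rw [pow_one, hx₀p]⟩))
    have h3 := sylow_eq_of_mem p (τ • P₁) P₁ (τ x₀) (fun h => hx₀1 ((map_eq_one_iff τ τ.injective).1 h)) h2 (hP₁ h1)
    rw [← h3, Sylow.pointwise_smul_def]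
    exact Subgroup.smul_mem_pointwise_smul _ τ _ hs'

/-- **The family**: every `X`, `1 < X < PSL₂(K)`, has an `S` in `Fam`. -/
theorem belongs (h2 : (2 : K) ≠ 0) (hs : IsSimpleGroup (PSL2 K)) (hn : ¬ ∀ a b : PSL2 K, a * b = b * a)
    {X : Subgroup (PSL2 K)} (hX1 : X ≠ ⊥) (hX2 : X ≠ ⊤) : Belongs p X := by
  by_cases hpX : p ∣ Nat.card X
  · rcases Cfsg.Agent.S0799.result (F := K) rfl p X with ⟨k, -, h | ⟨⟨e⟩⟩⟩ | ⟨P, Y, hY, ⟨e⟩⟩ | ⟨⟨e⟩⟩ | ⟨⟨e⟩⟩ | ⟨⟨e⟩⟩ |
      ⟨K', _, _, m, hm, h⟩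
    · exact belongs_of_isCyclic hX1 hX2 h.1
    · exact belongs_of_invGen hX1 hX2 ((invGen_dihedral k).congr e)
    · exact belongs_of_borel p hs hn hpX P hY e
    · exact belongs_of_invGen hX1 hX2 (invGen_alt4.congr e)
    · exact belongs_of_invGen hX1 hX2 (invGen_perm4.congr e)
    · exact belongs_of_invGen hX1 hX2 (invGen_alt5.congr e)
    · have hm0 : m ≠ 0 := by
        rintro rfl
        rw [pow_zero] at hm
        exact (Fintype.one_lt_card (α := K)).ne hm
      obtain ⟨f⟩ : Nonempty (K' →+* K) := exists_ringHom_of_card_pow hm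
      haveI : CharP K' p := (f.charP_iff f.injective p).2 inferInstance
      have h2' : (2 : K') ≠ 0 := fun h => h2 (by
        have := congrArg f h
        rwa [map_ofNat, map_zero] at this)
      rcases h with ⟨⟨e⟩⟩ | ⟨⟨e⟩⟩
      · exact belongs_of_pGen hX2 ((pGen_psl p h2').congr e)
      · exact belongs_of_pGen hX2 ((pGen_pgl p h2').congr e)
  · rcases tame p X hpX with h | ⟨k, ⟨e⟩⟩ | ⟨⟨e⟩⟩ | ⟨⟨e⟩⟩ | ⟨⟨e⟩⟩
    · exact belongs_of_isCyclic hX1 hX2 h
    · exact belongs_of_invGen hX1 hX2 ((invGen_dihedral k).congr e)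
    · exact belongs_of_invGen hX1 hX2 (invGen_alt4.congr e)
    · exact belongs_of_invGen hX1 hX2 (invGen_perm4.congr e)
    · exact belongs_of_invGen hX1 hX2 (invGen_alt5.congr e)

end Psl

end Cfsg.Agent.H276.EP
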