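import Cfsg.Agent.H276.EP.SocCount
import Cfsg.Agent.H276.EP.PslFam
import Cfsg.Agent.H59.EP.UB
import Cfsg.Agent.S0813
import Cfsg.Agent.ClassicalGeometry.PSL2Solvable

/-!
# S3499: `A` with socle `PSL₂(k)`, `k` odd (helper276)

* `ncard_le_psl`: the number of the `A ∩ A^x` is at most `|PSL₂(k)| (4 k² + 2)`;
* `index_le_psl`: with the line bound, `|Q : A| ≤ 1 + |PSL₂(k)| (4 k² + 2) |A| / 3`.
-/

set_option autoImplicit false
set_option linter.style.haveILetI false
set_option linter.unusedSectionVars false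

namespace Cfsg.Agent.H276.EP

open Subgroup Cfsg.Agent.H284 Cfsg.Agent.H419.EP
open Cfsg.Agent.ClassicalGeometry.PSL2Basic Cfsg.Agent.ClassicalGeometry.PSL2ElemOrder

local notation "SL2" => Matrix.SpecialLinearGroup (Fin 2)
local notation "PSL2" => Matrix.ProjectiveSpecialLinearGroup (Fin 2)

/-! ### counting the family -/

theorem ncard_fam_le {L : Type*} [Group L] [Finite L] (p : ℕ) [hp : Fact p.Prime] :
    (Fam p L).ncard ≤ Nat.card L * (2 + {u : L | u ^ 2 = 1 ∨ u ^ p = 1}.ncard) := by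
  classical
  set T : Set L := {u : L | u ^ 2 = 1 ∨ u ^ p = 1} with hT
  have h1 : (Set.range (fun g : L => zpowers g)).ncard ≤ Nat.card L := by
    rw [← Set.image_univ, ← Set.ncard_univ]
    exact Set.ncard_image_le (Set.toFinite _)
  have h2 : (Set.range (fun P : Sylow p L => (P : Subgroup L))).ncard ≤ Nat.card L := by
    have h3 : (Set.range (fun P : Sylow p L => (P : Subgroup L))).ncard ≤ Nat.card (Sylow p L) := by
      rw [← Set.image_univ, ← Set.ncard_univ]
      exact Set.ncard_image_le (Set.toFinite _)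
    refine h3.trans ?_
    rw [Sylow.card_eq_index_normalizer (default : Sylow p L)]
    exact Nat.le_of_dvd Nat.card_pos (Subgroup.index_dvd_card _)
  have h3 : (Set.image2 (fun u v : L => closure ({u, v} : Set L)) T Set.univ).ncard ≤ T.ncard * Nat.card L := by
    rw [← Set.image_uncurry_prod]
    refine (Set.ncard_image_le (Set.toFinite _)).trans ?_
    rw [Set.ncard_prod, Set.ncard_univ]
  have h4 := (Set.ncard_union_le (Set.range (fun g : L => zpowers g) ∪ Set.range (fun P : Sylow p L => (P : Subgroup L)))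
    (Set.image2 (fun u v : L => closure ({u, v} : Set L)) T Set.univ)).trans (Nat.add_le_add_right
    (Set.ncard_union_le _ _) _)
  calc (Fam p L).ncard ≤ Nat.card L + Nat.card L + T.ncard * Nat.card L :=
        h4.trans (Nat.add_le_add (Nat.add_le_add h1 h2) h3)
    _ = Nat.card L * (2 + T.ncard) := by ring

section Trace

variable {K : Type*} [Field K]

/-- the elements of given trace -/
theorem ncard_trace_le [Finite K] (t : K) :
    {M : SL2 K | (M : Matrix (Fin 2) (Fin 2) K).trace = t}.ncard ≤ 2 * Nat.card K ^ 2 := by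
  classical
  let f : SL2 K → Bool × K × K := fun M =>
    if M.1 1 0 = 0 then (true, M.1 0 0, M.1 0 1) else (false, M.1 0 0, M.1 1 0)
  have hinj : Set.InjOn f {M : SL2 K | (M : Matrix (Fin 2) (Fin 2) K).trace = t} := by
    intro M hM N hN hMN
    have tM : M.1 0 0 + M.1 1 1 = t := by
      have : (M : Matrix (Fin 2) (Fin 2) K).trace = t := hM
      rwa [Matrix.trace_fin_two] at this
    have tN : N.1 0 0 + N.1 1 1 = t := by
      have : (N : Matrix (Fin 2) (Fin 2) K).trace = t := hN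
      rwa [Matrix.trace_fin_two] at this
    have dM : M.1 0 0 * M.1 1 1 - M.1 0 1 * M.1 1 0 = 1 := by rw [← Matrix.det_fin_two]; exact M.2
    have dN : N.1 0 0 * N.1 1 1 - N.1 0 1 * N.1 1 0 = 1 := by rw [← Matrix.det_fin_two]; exact N.2
    have key : M.1 0 0 = N.1 0 0 ∧ M.1 0 1 = N.1 0 1 ∧ M.1 1 0 = N.1 1 0 := by
      by_cases hMc : M.1 1 0 = 0
      · by_cases hNc : N.1 1 0 = 0
        · simp only [f, hMc, hNc, if_true, Prod.mk.injEq, true_and] at hMN
          exact ⟨hMN.1, hMN.2, by rw [hMc, hNc]⟩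
        · simp [f, hMc, hNc] at hMN
      · by_cases hNc : N.1 1 0 = 0
        · simp [f, hMc, hNc] at hMN
        · simp only [f, hMc, hNc, if_false, Prod.mk.injEq, true_and] at hMN
          refine ⟨hMN.1, ?_, hMN.2⟩
          have h11 : M.1 1 1 = N.1 1 1 := by linear_combination tM - tN - hMN.1
          apply mul_right_cancel₀ hMc
          have e := hMN.2
          rw [h11, hMN.1] at dM
          rw [← e] at dN
          linear_combination dN - dM
    have h11 : M.1 1 1 = N.1 1 1 := by linear_combination tM - tN - key.1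
    apply Subtype.ext
    ext i j
    fin_cases i <;> fin_cases j
    · exact key.1
    · exact key.2.1
    · exact key.2.2
    · exact h11
  have h1 := Set.ncard_le_ncard_of_injOn (t := (Set.univ : Set (Bool × K × K))) f (fun _ _ => Set.mem_univ _) hinj
    (Set.toFinite _)
  rw [Set.ncard_univ, Nat.card_prod, Nat.card_prod] at h1
  have hb : Nat.card Bool = 2 := by rw [Nat.card_eq_fintype_card, Fintype.card_bool]
  rw [hb, ← pow_two] at h1
  exact h1

/-- the lifts of the elements `u` with `u² = 1` -/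
theorem lift_two {g : PSL2 K} (hg : g ^ 2 = 1) :
    ∃ M : SL2 K, (QuotientGroup.mk' (Subgroup.center (SL2 K))) M = g ∧
      ((M : Matrix (Fin 2) (Fin 2) K).trace = 0 ∨ (M : Matrix (Fin 2) (Fin 2) K).trace = 2) := by
  obtain ⟨M, rfl⟩ := QuotientGroup.mk'_surjective _ g
  by_cases h1 : (QuotientGroup.mk' (Subgroup.center (SL2 K))) M = 1
  · refine ⟨1, by rw [map_one, h1], Or.inr ?_⟩
    rw [Matrix.SpecialLinearGroup.coe_one, Matrix.trace_one, Fintype.card_fin]
    norm_num
  · refine ⟨M, rfl, Or.inl ?_⟩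
    rw [← map_pow, QuotientGroup.mk'_apply, QuotientGroup.eq_one_iff, Matrix.SpecialLinearGroup.mem_center_iff] at hg
    obtain ⟨r, -, hr⟩ := hg
    have hM := sl2_mul_self M
    rw [← pow_two, ← Matrix.SpecialLinearGroup.coe_pow, ← hr] at hM
    by_contra ht
    apply h1
    rw [QuotientGroup.mk'_apply, QuotientGroup.eq_one_iff, Matrix.SpecialLinearGroup.mem_center_iff]
    -- `t • M = (r + 1) • 1`
    have hM2 : (M : Matrix (Fin 2) (Fin 2) K) = Matrix.scalar (Fin 2)
        ((r + 1) / (M : Matrix (Fin 2) (Fin 2) K).trace) := by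
      set t := (M : Matrix (Fin 2) (Fin 2) K).trace with htt
      ext i j
      have h2 := congrFun (congrFun hM i) j
      fin_cases i <;> fin_cases j <;>
        simp [Matrix.scalar_apply, Matrix.diagonal, Matrix.sub_apply, Matrix.smul_apply] at h2 ⊢
      · field_simp
        linear_combination -h2
      · exact h2.resolve_left ht
      · exact h2.resolve_left ht
      · field_simp
        linear_combination -h2
    refine ⟨_, ?_, hM2.symm⟩
    have := M.2
    rw [hM2, Matrix.scalar_apply, Matrix.det_diagonal, Finset.prod_const, Finset.card_univ] at this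
    exact this

/-- the lifts of the elements `u` with `u ^ p = 1` -/
theorem lift_p (p : ℕ) [hp : Fact p.Prime] [CharP K p] (hodd : Odd p) {g : PSL2 K} (hg : g ^ p = 1) :
    ∃ M : SL2 K, (QuotientGroup.mk' (Subgroup.center (SL2 K))) M = g ∧
      (M : Matrix (Fin 2) (Fin 2) K).trace = 2 := by
  obtain ⟨M, rfl⟩ := QuotientGroup.mk'_surjective _ g
  have key : ∀ N : SL2 K, N ^ p = 1 → (N : Matrix (Fin 2) (Fin 2) K).trace = 2 := by
    intro N hN
    have h1 : ((N : Matrix (Fin 2) (Fin 2) K) - 1) ^ p = 0 := by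
      have hc : CharP (Matrix (Fin 2) (Fin 2) K) p := inferInstance
      rw [sub_pow_char_of_commute p (Commute.one_right _), one_pow, ← Matrix.SpecialLinearGroup.coe_pow, hN,
        Matrix.SpecialLinearGroup.coe_one, sub_self]
    have h2 := Matrix.isNilpotent_trace_of_isNilpotent (⟨p, h1⟩ : IsNilpotent ((N : Matrix (Fin 2) (Fin 2) K) - 1))
    have h3 := h2.eq_zero
    rw [Matrix.trace_sub, Matrix.trace_one, Fintype.card_fin] at h3
    have := sub_eq_zero.1 h3
    rw [this]
    norm_num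
  rw [← map_pow, QuotientGroup.mk'_apply, QuotientGroup.eq_one_iff, mem_center_SL2_iff] at hg
  rcases hg with hg | hg
  · exact ⟨M, rfl, key M hg⟩
  · refine ⟨-M, ?_, key _ ?_⟩
    · rw [QuotientGroup.mk'_apply, QuotientGroup.mk'_apply, QuotientGroup.eq, mem_center_SL2_iff]
      right
      rw [inv_mul_eq_iff_eq_mul, neg_mul_neg, mul_one]
    · rw [hodd.neg_pow, hg, neg_neg]

theorem ncard_T_le [Finite K] (p : ℕ) [hp : Fact p.Prime] [CharP K p] (hodd : Odd p) :
    {u : PSL2 K | u ^ 2 = 1 ∨ u ^ p = 1}.ncard ≤ 4 * Nat.card K ^ 2 := by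
  have hsub : {u : PSL2 K | u ^ 2 = 1 ∨ u ^ p = 1} ⊆
      (QuotientGroup.mk' (Subgroup.center (SL2 K))) '' ({M : SL2 K | (M : Matrix (Fin 2) (Fin 2) K).trace = 0} ∪
        {M : SL2 K | (M : Matrix (Fin 2) (Fin 2) K).trace = 2}) := by
    rintro g (hg | hg)
    · obtain ⟨M, h1, h2⟩ := lift_two hg
      exact ⟨M, h2, h1⟩
    · obtain ⟨M, h1, h2⟩ := lift_p p hodd hg
      exact ⟨M, Or.inr h2, h1⟩
  refine (Set.ncard_le_ncard hsub (Set.toFinite _)).trans ((Set.ncard_image_le (Set.toFinite _)).trans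
    ((Set.ncard_union_le _ _).trans ((Nat.add_le_add (ncard_trace_le 0) (ncard_trace_le 2)).trans (le_of_eq ?_))))
  ring

end Trace

/-! ### the count -/

section Main

variable {Q : Type*} [Group Q] [Finite Q] {A : Subgroup Q} {Γ : Subgroup (MulAut Q)} {K : Type*} [Field K] [Fintype K]

theorem not_comm_psl (h4 : 4 ≤ Fintype.card K) : ¬ ∀ a b : PSL2 K, a * b = b * a := fun hc =>
  Cfsg.Agent.ClassicalGeometry.PSL2Solvable.not_isSolvable_psl K h4 (Group.isSolvable_of_comm hc)

theorem simple_psl (h4 : 4 ≤ Fintype.card K) : IsSimpleGroup (PSL2 K) :=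
  Matrix.ProjectiveSpecialLinearGroup.rank_two_simple (by rwa [Nat.card_eq_fintype_card])

/-- the number of two-point stabilisers -/
theorem ncard_le_psl (h : EPT A Γ) (hA : HasSoc A (PSL2 K)) (hodd : Odd (Fintype.card K)) (h4 : 4 ≤ Fintype.card K) :
    {M : Subgroup Q | ∃ x, x ∉ A ∧ M = A ⊓ cj x A}.ncard ≤
      Nat.card (PSL2 K) * (2 + 4 * Fintype.card K ^ 2) := by
  obtain ⟨p, hpc⟩ := CharP.exists K
  haveI : Fact p.Prime := ⟨CharP.char_is_prime K p⟩
  have h2 : (2 : K) ≠ 0 := (two_ne_zero_iff_odd K).2 hodd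
  have hp : Odd p := by
    refine (Fact.out : p.Prime).odd_of_ne_two ?_
    rintro rfl
    exact h2 (by exact_mod_cast CharP.cast_eq_zero K 2)
  have hs := simple_psl h4
  have hn := not_comm_psl h4
  refine (ncard_le_of_soc h hA hs hn (Cfsg.Agent.SectRankFour.OutAb.outComm_psl_two K) (Fam p (PSL2 K))
    (fun X h1 h3 => belongs p h2 hs hn h1 h3)).trans ?_
  refine (ncard_fam_le p).trans (Nat.mul_le_mul_left _ (Nat.add_le_add_left ?_ _))
  rw [← Nat.card_eq_fintype_card]
  exact ncard_T_le p hp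

/-- the index -/
theorem index_le_psl (hs : IsSimpleGroup Q) (h : EPT A Γ) (hA : HasSoc A (PSL2 K)) (hodd : Odd (Fintype.card K))
    (h4 : 4 ≤ Fintype.card K) :
    A.index ≤ 1 + Nat.card (PSL2 K) * (2 + 4 * Fintype.card K ^ 2) * (2 * (Nat.card A / 6)) := by
  have hab : ∀ K : Subgroup Q, K ≤ A → (∀ a ∈ A, ∀ k ∈ K, a * k * a⁻¹ ∈ K) → (∀ a ∈ K, ∀ b ∈ K, a * b = b * a) →
      K = ⊥ := fun K h1 h2 h3 => hA.no_abelian (simple_psl h4) (not_comm_psl h4) h1 h2 h3
  refine (Cfsg.Agent.H173.EP.ub1 hs h (μ := 6) (by norm_num)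
    (fun x hx => Cfsg.Agent.H59.EP.EPT.six_le h hab hx)).trans ?_
  exact Nat.add_le_add_left (Nat.mul_le_mul_right _ (ncard_le_psl h hA hodd h4)) _

/-- `3 |Q| ≤ 3 a + r a²` for `|A| ≤ a` -/
theorem card_le_psl (hs : IsSimpleGroup Q) (h : EPT A Γ) (hA : HasSoc A (PSL2 K)) (hodd : Odd (Fintype.card K))
    (h4 : 4 ≤ Fintype.card K) {a : ℕ} (ha : Nat.card A ≤ a) :
    3 * Nat.card Q ≤ 3 * a + Nat.card (PSL2 K) * (2 + 4 * Fintype.card K ^ 2) * a ^ 2 := by
  have h1 := index_le_psl hs h hA hodd h4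
  set r := Nat.card (PSL2 K) * (2 + 4 * Fintype.card K ^ 2) with hr
  have h2 : 3 * (2 * (Nat.card A / 6)) ≤ Nat.card A := by omega
  rw [← A.card_mul_index]
  calc 3 * (Nat.card A * A.index) ≤ 3 * (Nat.card A * (1 + r * (2 * (Nat.card A / 6)))) :=
        Nat.mul_le_mul_left _ (Nat.mul_le_mul_left _ h1)
    _ = 3 * Nat.card A + r * Nat.card A * (3 * (2 * (Nat.card A / 6))) := by ring
    _ ≤ 3 * Nat.card A + r * Nat.card A * Nat.card A := Nat.add_le_add_left (Nat.mul_le_mul_left _ h2) _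
    _ = 3 * Nat.card A + r * Nat.card A ^ 2 := by ring
    _ ≤ 3 * a + r * a ^ 2 :=
        Nat.add_le_add (Nat.mul_le_mul_left _ ha) (Nat.mul_le_mul_left _ (Nat.pow_le_pow_left ha 2))

/-- `|A| ≤ f k (k² - 1)`, `k = p ^ f` -/
theorem card_A_le_psl (hA : HasSoc A (PSL2 K)) {p f : ℕ} [Fact p.Prime] (hf : 1 ≤ f) (hK : Fintype.card K = p ^ f)
    (h4 : 4 ≤ Fintype.card K) : Nat.card A ≤ f * (Fintype.card K * (Fintype.card K ^ 2 - 1)) := by
  refine hA.card_le.trans (le_of_eq ?_)
  rw [Cfsg.Agent.S0813.result p f hf hK 2 le_rfl (fun _ => by rw [← hK]; exact h4), if_pos rfl, one_mul, card_PGL2]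

end Main

end Cfsg.Agent.H276.EP
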