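import Cfsg.Agent.H419.EP.Soc
import Cfsg.Agent.H173.EP.LineBound
import Cfsg.Agent.SectRankFour.OutAb

/-!
# S3499: counting two-point stabilisers in the socle of `A` (helper276)

`A` almost simple with socle `N ≅ L`, `Out(L)` abelian. If every proper subgroup `X ≠ 1` of `L` has a subgroup
`S = S(X)`, `1 < S < L`, in a set `𝓔`, such that `S` is invariant under the automorphisms of `L` which leave `X` invariant,
then the number of the `A ∩ A^x` is at most `|𝓔|`.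
-/

set_option autoImplicit false
set_option linter.style.haveILetI false
set_option linter.unusedSectionVars false

namespace Cfsg.Agent.H276.EP

open Subgroup Cfsg.Agent.H284 Cfsg.Agent.H419.EP
open Cfsg.Agent.SectRankFour.OutAb (OutComm)

section Soc

theorem mem_iff_of_le {M : Type*} [Group M] [Finite M] {U : Subgroup M} {α : MulAut M} (h : ∀ u ∈ U, α u ∈ U) (u : M) :
    α u ∈ U ↔ u ∈ U := by
  refine ⟨fun hu => ?_, h u⟩
  have h1 : U.map α.toMonoidHom = U := by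
    apply Subgroup.eq_of_le_of_card_ge
    · rintro _ ⟨x, hx, rfl⟩
      exact h x hx
    · rw [Subgroup.card_map_of_injective α.injective]
  rw [← h1] at hu
  obtain ⟨x, hx, he⟩ := hu
  have : x = u := α.injective he
  rwa [← this]

variable {Q : Type*} [Group Q] [Finite Q] {A : Subgroup Q} {Γ : Subgroup (MulAut Q)}

/-- the socle is invariant under `Γ` -/
theorem soc_inv (h : EPT A Γ) {N : Subgroup Q} (hNA : N ≤ A) (hN : ∀ a ∈ A, ∀ n ∈ N, a * n * a⁻¹ ∈ N)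
    (hC : ∀ a ∈ A, (∀ n ∈ N, a * n = n * a) → a = 1) (hs : IsSimpleGroup N) {σ : MulAut Q} (hσ : σ ∈ Γ) :
    ∀ n ∈ N, σ n ∈ N := by
  set N' : Subgroup Q := N.map σ.toMonoidHom with hN'
  have hmem : ∀ y, y ∈ N' ↔ ∃ n ∈ N, σ n = y := fun y => Iff.rfl
  have hN'A : N' ≤ A := by
    intro y hy
    obtain ⟨n, hn, rfl⟩ := (hmem y).1 hy
    exact (h.inv σ hσ n).2 (hNA hn)
  have hN'n : ∀ a ∈ A, ∀ n ∈ N', a * n * a⁻¹ ∈ N' := by
    intro a ha y hy
    obtain ⟨n, hn, rfl⟩ := (hmem y).1 hy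
    have ha' : σ⁻¹ a ∈ A := (h.inv _ (Γ.inv_mem hσ) a).2 ha
    refine (hmem _).2 ⟨σ⁻¹ a * n * (σ⁻¹ a)⁻¹, hN _ ha' n hn, ?_⟩
    rw [map_mul, map_mul, map_inv]
    have : σ (σ⁻¹ a) = a := MulAut.apply_inv_self _ _ _
    rw [this]
  have hcard : Nat.card N' = Nat.card N := Subgroup.card_map_of_injective σ.injective
  have hn : ((N' ⊓ N).subgroupOf N).Normal := ⟨by
    rintro ⟨n, hn'⟩ hn ⟨a, ha⟩
    exact ⟨hN'n a (hNA ha) n hn.1, N.mul_mem (N.mul_mem ha hn') (N.inv_mem ha)⟩⟩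
  have key : N ≤ N' := by
    rcases hn.eq_bot_or_eq_top with h4 | h4
    · exfalso
      -- `N'` centralises `N`
      have h5 : ∀ y ∈ N', y = 1 := by
        intro y hy
        apply hC y (hN'A hy)
        intro n hn'
        have h5 : y * n * y⁻¹ * n⁻¹ ∈ N' ⊓ N := by
          refine ⟨?_, ?_⟩
          · have : y * n * y⁻¹ * n⁻¹ = y * (n * y⁻¹ * n⁻¹) := by group
            rw [this]
            exact N'.mul_mem hy (hN'n n (hNA hn') _ (N'.inv_mem hy))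
          · exact N.mul_mem (hN y (hN'A hy) n hn') (N.inv_mem hn')
        have h6 : (⟨y * n * y⁻¹ * n⁻¹, h5.2⟩ : N) ∈ (N' ⊓ N).subgroupOf N := h5
        rw [h4, mem_bot] at h6
        have h7 : y * n * y⁻¹ * n⁻¹ = 1 := congrArg Subtype.val h6
        rw [mul_inv_eq_one, mul_inv_eq_iff_eq_mul] at h7
        exact h7
      have h6 : N' = ⊥ := (Subgroup.eq_bot_iff_forall _).2 h5
      rw [h6, Subgroup.card_bot] at hcard
      have h7 := hs.toNontrivial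
      exact (Finite.one_lt_card (α := N)).ne hcard
    · intro n hn'
      have h6 : (⟨n, hn'⟩ : N) ∈ (N' ⊓ N).subgroupOf N := by rw [h4]; exact mem_top _
      exact (mem_inf.1 h6).1
  have heq : N = N' := Subgroup.eq_of_le_of_card_ge key hcard.le
  intro n hn
  rw [heq]
  exact (hmem _).2 ⟨n, hn, rfl⟩

variable {L : Type*} [Group L]

/-- the data of the socle -/
structure SocData (A : Subgroup Q) (Γ : Subgroup (MulAut Q)) (L : Type*) [Group L] where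
  ι : L →* Q
  inj : Function.Injective ι
  le : ∀ l, ι l ∈ A
  norm : ∀ a ∈ A, ∀ l, ∃ l', ι l' = a * ι l * a⁻¹
  cent : ∀ a ∈ A, (∀ l, a * ι l = ι l * a) → a = 1
  inv : ∀ σ ∈ Γ, ∀ l, ∃ l', ι l' = σ (ι l)

theorem exists_socData (h : EPT A Γ) (hA : HasSoc A L) (hL : IsSimpleGroup L) : Nonempty (SocData A Γ L) := by
  obtain ⟨N, h1, h2, h3, ⟨e⟩⟩ := hA
  have hNs : IsSimpleGroup N := by
    haveI := hL
    exact e.isSimpleGroup
  have hi := fun (σ : MulAut Q) (hσ : σ ∈ Γ) => soc_inv h h1 h2 h3 hNs hσ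
  have hex : ∀ y ∈ N, ∃ l' : L, ((e.symm l' : N) : Q) = y := fun y hy => ⟨e ⟨y, hy⟩, by rw [e.symm_apply_apply]⟩
  exact ⟨{
    ι := N.subtype.comp e.symm.toMonoidHom
    inj := fun x y hxy => e.symm.injective (Subtype.ext hxy)
    le := fun l => h1 (e.symm l).2
    norm := fun a ha l => hex _ (h2 a ha _ (e.symm l).2)
    cent := by
      intro a ha hc
      apply h3 a ha
      intro n hn
      have := hc (e ⟨n, hn⟩)
      have e1 : (N.subtype.comp e.symm.toMonoidHom) (e ⟨n, hn⟩) = n := by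
        show ((e.symm (e ⟨n, hn⟩) : N) : Q) = n
        rw [e.symm_apply_apply]
      rw [e1] at this
      exact this
    inv := fun σ hσ l => hex _ (hi σ hσ _ (e.symm l).2) }⟩

namespace SocData

variable (D : SocData A Γ L)

/-- the automorphism of `L` induced by `σ ∈ Γ` -/
theorem exists_aut [Finite L] {σ : MulAut Q} (hσ : σ ∈ Γ) : ∃ τ : MulAut L, ∀ l, D.ι (τ l) = σ (D.ι l) := by
  choose f hf using D.inv σ hσ
  have hmul : ∀ x y, f (x * y) = f x * f y := by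
    intro x y
    apply D.inj
    rw [hf, map_mul, map_mul, map_mul, hf, hf]
  have hinj : Function.Injective f := by
    intro x y hxy
    apply D.inj
    apply σ.injective
    rw [← hf, ← hf, hxy]
  exact ⟨MulEquiv.ofBijective (MonoidHom.mk' f hmul) (Finite.injective_iff_bijective.1 hinj), hf⟩

end SocData

/-- the subgroup of `L` -/
def XL (D : SocData A Γ L) (x : Q) : Subgroup L := (A ⊓ cj x A).comap D.ι

theorem mem_XL {D : SocData A Γ L} {x : Q} {l : L} : l ∈ XL D x ↔ D.ι l ∈ cj x A :=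
  ⟨fun h => (mem_inf.1 h).2, fun h => mem_inf.2 ⟨D.le l, h⟩⟩

variable (D : SocData A Γ L)

/-- `X ≠ L` -/
theorem XL_ne_top (h : EPT A Γ) [Nontrivial L] {x : Q} (hx : x ∉ A) : XL D x ≠ ⊤ := by
  intro e
  have h1 := h.F1 x hx D.ι.range (by
    rintro _ ⟨l, rfl⟩
    exact D.le l) (by
    rintro σ hσ _ ⟨l, rfl⟩
    exact D.inv σ hσ l) (by
    rintro _ ⟨l, rfl⟩
    have : l ∈ XL D x := by rw [e]; exact mem_top _
    exact mem_XL.1 this)
  obtain ⟨l, hl⟩ := exists_ne (1 : L)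
  apply hl
  apply D.inj
  have h2 : D.ι l ∈ D.ι.range := ⟨l, rfl⟩
  rw [h1, mem_bot] at h2
  rw [h2, map_one]

/-- `X ≠ 1` -/
theorem XL_ne_bot [Finite L] (h : EPT A Γ) (hO : OutComm L)
    (hab : ∀ K : Subgroup Q, K ≤ A → (∀ a ∈ A, ∀ k ∈ K, a * k * a⁻¹ ∈ K) → (∀ a ∈ K, ∀ b ∈ K, a * b = b * a) → K = ⊥)
    {x : Q} (hx : x ∉ A) : XL D x ≠ ⊥ := by
  intro e
  obtain ⟨K, h1, h2, h3, h4⟩ := h.abM0 x hx (by
    intro a ha b hb
    have hcaΓ : MulAut.conj a ∈ Γ := (h.conj a).2 ha.1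
    have hcbΓ : MulAut.conj b ∈ Γ := (h.conj b).2 hb.1
    obtain ⟨α, hα⟩ := D.exists_aut hcaΓ
    obtain ⟨β, hβ⟩ := D.exists_aut hcbΓ
    obtain ⟨k, hk⟩ := hO α β
    -- the commutator centralises modulo an element of `N`
    have hα' : ∀ l, D.ι (α⁻¹ l) = a⁻¹ * D.ι l * a := by
      intro l
      have h5 := hα (α⁻¹ l)
      rw [MulAut.apply_inv_self, MulAut.conj_apply] at h5
      rw [h5]
      group
    have hβ' : ∀ l, D.ι (β⁻¹ l) = b⁻¹ * D.ι l * b := by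
      intro l
      have h5 := hβ (β⁻¹ l)
      rw [MulAut.apply_inv_self, MulAut.conj_apply] at h5
      rw [h5]
      group
    have hc : a * b * a⁻¹ * b⁻¹ ∈ A ⊓ cj x A :=
      mul_mem (mul_mem (mul_mem ha hb) (inv_mem ha)) (inv_mem hb)
    have h6 : (D.ι k)⁻¹ * (a * b * a⁻¹ * b⁻¹) = 1 := by
      apply D.cent
      · exact A.mul_mem (A.inv_mem (D.le k)) hc.1
      · intro l
        have h7 := congrArg D.ι (hk l)
        rw [MulAut.mul_apply, MulAut.mul_apply, MulAut.mul_apply, hα, MulAut.conj_apply, hβ, MulAut.conj_apply, hα',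
          hβ', map_mul, map_mul, map_inv] at h7
        have h8 : a * b * a⁻¹ * b⁻¹ * D.ι l = D.ι k * D.ι l * (D.ι k)⁻¹ * (a * b * a⁻¹ * b⁻¹) := by
          rw [← h7]
          group
        calc (D.ι k)⁻¹ * (a * b * a⁻¹ * b⁻¹) * D.ι l = (D.ι k)⁻¹ * (a * b * a⁻¹ * b⁻¹ * D.ι l) := by group
          _ = (D.ι k)⁻¹ * (D.ι k * D.ι l * (D.ι k)⁻¹ * (a * b * a⁻¹ * b⁻¹)) := by rw [h8]
          _ = D.ι l * ((D.ι k)⁻¹ * (a * b * a⁻¹ * b⁻¹)) := by group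
    rw [inv_mul_eq_one] at h6
    have h7 : k ∈ XL D x := by
      rw [mem_XL, h6]
      exact hc.2
    rw [e, mem_bot] at h7
    rw [h7, map_one] at h6
    have h8 : a * b * a⁻¹ * b⁻¹ = 1 := h6.symm
    rw [mul_inv_eq_one, mul_inv_eq_iff_eq_mul] at h8
    exact h8)
  exact h3 (hab K h1 (fun a ha k hk => h2 _ ((h.conj a).2 ha) k hk) h4)

/-- the stabiliser in `Γ` of `xA` leaves `X` invariant -/
theorem XL_inv (h : EPT A Γ) {x : Q} {σ : MulAut Q} (hσ : σ ∈ Γ) (hx : x⁻¹ * σ x ∈ A) {τ : MulAut L}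
    (hτ : ∀ l, D.ι (τ l) = σ (D.ι l)) : ∀ l ∈ XL D x, τ l ∈ XL D x := by
  intro l hl
  show D.ι (τ l) ∈ A ⊓ cj x A
  rw [hτ]
  exact Cfsg.Agent.H173.EP.inf_inv h hσ hx hl

/-- `A ∩ A^x` is determined by a subgroup `S` of `L`, invariant under the automorphisms leaving `X` invariant. -/
theorem mem_iff_of_S [Finite L] (h : EPT A Γ) (hL : IsSimpleGroup L) {x : Q} (hx : x ∉ A) {S : Subgroup L}
    (hS1 : S ≠ ⊥) (hS2 : S ≠ ⊤) (hS : ∀ τ : MulAut L, (∀ l ∈ XL D x, τ l ∈ XL D x) → ∀ s ∈ S, τ s ∈ S) {a : Q}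
    (ha : a ∈ A) : a ∈ cj x A ↔ ∀ s ∈ S, a * D.ι s * a⁻¹ ∈ S.map D.ι := by
  -- the stabiliser of `S` in `Γ`
  let L' : Subgroup (MulAut Q) :=
    { carrier := {σ | σ ∈ Γ ∧ ∀ y, σ y ∈ S.map D.ι ↔ y ∈ S.map D.ι}
      one_mem' := ⟨Γ.one_mem, fun y => Iff.rfl⟩
      mul_mem' := by
        rintro σ τ ⟨h1, h2⟩ ⟨h3, h4⟩
        refine ⟨Γ.mul_mem h1 h3, fun y => ?_⟩
        rw [MulAut.mul_apply, h2, h4]
      inv_mem' := by
        rintro σ ⟨h1, h2⟩
        refine ⟨Γ.inv_mem h1, fun y => ?_⟩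
        rw [← h2 (σ⁻¹ y), MulAut.apply_inv_self] }
  have hfin : ∀ σ : MulAut Q, (∀ y ∈ S.map D.ι, σ y ∈ S.map D.ι) → ∀ y, σ y ∈ S.map D.ι ↔ y ∈ S.map D.ι :=
    fun σ hσ y => mem_iff_of_le hσ y
  have hx' : ∀ σ ∈ Γ, x⁻¹ * σ x ∈ A → σ ∈ L' := by
    intro σ hσ hxσ
    obtain ⟨τ, hτ⟩ := D.exists_aut hσ
    refine ⟨hσ, hfin σ ?_⟩
    rintro _ ⟨s, hs, rfl⟩
    exact ⟨τ s, hS τ (XL_inv D h hσ hxσ hτ) s hs, hτ s⟩
  have hconj : ∀ {a : Q}, a ∈ A → (x⁻¹ * (MulAut.conj a) x ∈ A ↔ a ∈ cj x A) := by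
    intro a ha
    rw [MulAut.conj_apply, mem_cj, ← mul_assoc, ← mul_assoc]
    exact Subgroup.mul_mem_cancel_right A (A.inv_mem ha)
  constructor
  · intro hax s hs
    have h1 := hx' _ ((h.conj a).2 ha) ((hconj ha).2 hax)
    exact (h1.2 (D.ι s)).2 ⟨s, hs, rfl⟩
  · intro hn
    have h1 : MulAut.conj a ∈ L' := by
      refine ⟨(h.conj a).2 ha, hfin _ ?_⟩
      rintro _ ⟨s, hs, rfl⟩
      exact hn s hs
    rcases h.two x hx L' (fun σ hσ => hσ.1) hx' with h2 | h2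
    · exfalso
      have hSn : S.Normal := ⟨by
        intro s hs l
        have h3 : MulAut.conj (D.ι l) ∈ L' := by
          rw [h2]
          exact (h.conj _).2 (D.le l)
        obtain ⟨s', hs', e⟩ := (h3.2 (D.ι s)).2 ⟨s, hs, rfl⟩
        have h4 : s' = l * s * l⁻¹ := by
          apply D.inj
          rw [map_mul, map_mul, map_inv]
          exact e
        rw [← h4]
        exact hs'⟩
      rcases hSn.eq_bot_or_eq_top with h3 | h3
      · exact hS1 h3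
      · exact hS2 h3
    · exact (hconj ha).1 (h2 _ h1)

/-- **The count**: the number of the `A ∩ A^x` is at most `|𝓔|`. -/
theorem ncard_le_of_soc [Finite L] (h : EPT A Γ) (hA : HasSoc A L) (hL : IsSimpleGroup L)
    (hLn : ¬ ∀ a b : L, a * b = b * a) (hO : OutComm L) (𝓔 : Set (Subgroup L))
    (hE : ∀ X : Subgroup L, X ≠ ⊥ → X ≠ ⊤ → ∃ S ∈ 𝓔, S ≠ ⊥ ∧ S ≠ ⊤ ∧
      ∀ τ : MulAut L, (∀ l ∈ X, τ l ∈ X) → ∀ s ∈ S, τ s ∈ S) :
    {M : Subgroup Q | ∃ x, x ∉ A ∧ M = A ⊓ cj x A}.ncard ≤ 𝓔.ncard := by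
  classical
  obtain ⟨D⟩ := exists_socData h hA hL
  haveI := hL.toNontrivial
  have hex : ∀ x, x ∉ A → ∃ S ∈ 𝓔, ∀ a ∈ A, (a ∈ cj x A ↔ ∀ s ∈ S, a * D.ι s * a⁻¹ ∈ S.map D.ι) := by
    intro x hx
    obtain ⟨S, h1, h2, h3, h4⟩ := hE (XL D x) (XL_ne_bot D h hO (fun K h1 h2 h3 => hA.no_abelian hL hLn h1 h2 h3) hx)
      (XL_ne_top D h hx)
    exact ⟨S, h1, fun a ha => mem_iff_of_S D h hL hx h2 h3 h4 ha⟩
  let g : Subgroup L → Subgroup Q := fun S => sSup {M | (∃ x, x ∉ A ∧ M = A ⊓ cj x A) ∧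
    ∀ a ∈ A, (a ∈ M ↔ ∀ s ∈ S, a * D.ι s * a⁻¹ ∈ S.map D.ι)}
  have hsub : {M : Subgroup Q | ∃ x, x ∉ A ∧ M = A ⊓ cj x A} ⊆ g '' 𝓔 := by
    rintro M ⟨x, hx, rfl⟩
    obtain ⟨S, hS, h1⟩ := hex x hx
    refine ⟨S, hS, ?_⟩
    have h2 : {M : Subgroup Q | (∃ x, x ∉ A ∧ M = A ⊓ cj x A) ∧
        ∀ a ∈ A, (a ∈ M ↔ ∀ s ∈ S, a * D.ι s * a⁻¹ ∈ S.map D.ι)} = {A ⊓ cj x A} := by
      ext M
      rw [Set.mem_singleton_iff]
      constructor
      · rintro ⟨⟨y, hy, rfl⟩, h3⟩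
        ext a
        constructor
        · intro ha
          exact ⟨ha.1, (h1 a ha.1).2 ((h3 a ha.1).1 ha)⟩
        · intro ha
          exact (h3 a ha.1).2 ((h1 a ha.1).1 ha.2)
      · rintro rfl
        refine ⟨⟨x, hx, rfl⟩, fun a ha => ?_⟩
        rw [← h1 a ha]
        exact ⟨fun h => h.2, fun h => ⟨ha, h⟩⟩
    show sSup _ = _
    rw [h2, sSup_singleton]
  exact (Set.ncard_le_ncard hsub (Set.toFinite _)).trans (Set.ncard_image_le (Set.toFinite _))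

end Soc

end Cfsg.Agent.H276.EP
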