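import Cfsg.Agent.H276.EP.PslCount
import Cfsg.Agent.H729.EPM.PSp
import Cfsg.Agent.S0245
import Cfsg.Agent.S0246

/-!
# S3499-VII: `PSL₂(q³) < PSp₈(q)`, `q` odd (helper276)
-/

set_option autoImplicit false
set_option linter.style.haveILetI false

namespace Cfsg.Agent.H276.EP

open Cfsg Subgroup Cfsg.Agent.H284 Cfsg.Agent.H419.EP

/-- `2 |PSp₈(q)|` for odd `q` -/
theorem card_psp8 {F : Type*} [Field F] [Fintype F] (ho : Odd (Fintype.card F)) :
    2 * Nat.card (Cfsg.PSp 4 F) = Fintype.card F ^ 16 * ((Fintype.card F ^ 2 - 1) * (Fintype.card F ^ 4 - 1) *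
      (Fintype.card F ^ 6 - 1) * (Fintype.card F ^ 8 - 1)) := by
  have h1 := S0245.result (F := F) rfl 4
  have h2 := S0246.result (F := F) rfl 4 (by norm_num)
  have h3 := Subgroup.card_eq_card_quotient_mul_card_subgroup
    (Subgroup.center (Matrix.symplecticGroup (Fin 4) F))
  have h4 : Nat.gcd 2 (Fintype.card F - 1) = 2 := by
    apply Nat.gcd_eq_left
    obtain ⟨k, hk⟩ := ho
    omega
  rw [h1, h2, h4, Finset.prod_range_succ, Finset.prod_range_succ, Finset.prod_range_succ, Finset.prod_range_one] at h3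
  rw [mul_comm]
  exact h3.symm

theorem card_eq_psp {Q : Type*} [Group Q] {F : Type*} [Field F] {k : ℕ} (m : Model Q (Cfsg.spGL k F)) :
    Nat.card Q = Nat.card (Cfsg.PSp k F) := by
  have m' := Cfsg.Agent.H729.EPM.modelPSp k F
  have hk : m.π.ker = m'.π.ker := by
    ext s
    rw [MonoidHom.mem_ker, MonoidHom.mem_ker, m.ker, m'.ker]
  exact Nat.card_congr ((QuotientGroup.quotientKerEquivOfSurjective m.π m.surj).symm.trans
    ((QuotientGroup.quotientMulEquivOfEq hk).trans (QuotientGroup.quotientKerEquivOfSurjective m'.π m'.surj))).toEquiv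

theorem num {q : ℕ} (hq : 3 ≤ q) : 7290000 * (6 * q ^ 10 + 6 * q ^ 35) <
    7290000 * (3 * (q ^ 16 * ((q ^ 2 - 1) * (q ^ 4 - 1) * (q ^ 6 - 1) * (q ^ 8 - 1)))) := by
  have p2 : 3 ^ 2 ≤ q ^ 2 := Nat.pow_le_pow_left hq 2
  have p4 : 3 ^ 4 ≤ q ^ 4 := Nat.pow_le_pow_left hq 4
  have p6 : 3 ^ 6 ≤ q ^ 6 := Nat.pow_le_pow_left hq 6
  have p8 : 3 ^ 8 ≤ q ^ 8 := Nat.pow_le_pow_left hq 8
  have a2 : 8 * q ^ 2 ≤ 9 * (q ^ 2 - 1) := by omega
  have a4 : 80 * q ^ 4 ≤ 81 * (q ^ 4 - 1) := by omega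
  have a6 : 99 * q ^ 6 ≤ 100 * (q ^ 6 - 1) := by omega
  have a8 : 99 * q ^ 8 ≤ 100 * (q ^ 8 - 1) := by omega
  have h1 := Nat.mul_le_mul (Nat.mul_le_mul (Nat.mul_le_mul a2 a4) a6) a8
  have h2 : 6272640 * q ^ 20 ≤ 7290000 * ((q ^ 2 - 1) * (q ^ 4 - 1) * (q ^ 6 - 1) * (q ^ 8 - 1)) := by
    calc 6272640 * q ^ 20 = 8 * q ^ 2 * (80 * q ^ 4) * (99 * q ^ 6) * (99 * q ^ 8) := by ring
      _ ≤ _ := h1
      _ = _ := by ring
  have h3 : 9 * 6272640 * q ^ 35 ≤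
      7290000 * (3 * (q ^ 16 * ((q ^ 2 - 1) * (q ^ 4 - 1) * (q ^ 6 - 1) * (q ^ 8 - 1)))) := by
    calc 9 * 6272640 * q ^ 35 = 3 * (q ^ 15 * 3) * (6272640 * q ^ 20) := by ring
      _ ≤ 3 * (q ^ 15 * q) * (7290000 * ((q ^ 2 - 1) * (q ^ 4 - 1) * (q ^ 6 - 1) * (q ^ 8 - 1))) :=
          Nat.mul_le_mul (Nat.mul_le_mul_left _ (Nat.mul_le_mul_left _ hq)) h2
      _ = _ := by ring
  refine lt_of_lt_of_le ?_ h3
  have p25 : 4 ≤ q ^ 25 := le_trans (by norm_num) (Nat.pow_le_pow_left hq 25)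
  have p10 : 0 < q ^ 10 := by positivity
  have h5 : q ^ 10 * 4 ≤ q ^ 35 := by
    rw [show (35 : ℕ) = 10 + 25 by norm_num, pow_add]
    exact Nat.mul_le_mul_left _ p25
  omega

/-- **S3499-VII-L2q3-Sp8**: no extremely primitive group with socle `PSp₈(q)`, `q` odd, and a point stabiliser with
socle `PSL₂(q³)`. -/
theorem l2_cube_sp_eight {Q : Type*} [Group Q] [Finite Q] (hs : IsSimpleGroup Q) {A : Subgroup Q}
    {Γ : Subgroup (MulAut Q)} (h : EPT A Γ) {F : Type*} [Field F] [Fintype F] (hq : Odd (Fintype.card F))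
    (m : Model Q (Cfsg.spGL 4 F)) {K : Type*} [Field K] [Fintype K] (hK : Fintype.card K = Fintype.card F ^ 3)
    (hA : HasSoc A (Matrix.ProjectiveSpecialLinearGroup (Fin 2) K)) : False := by
  obtain ⟨p, hpc⟩ := CharP.exists F
  haveI : Fact p.Prime := ⟨CharP.char_is_prime F p⟩
  obtain ⟨f, hp, hf⟩ := FiniteField.card F p
  have hq2 : 1 < Fintype.card F := Fintype.one_lt_card
  have hodd' := hq
  rw [Nat.odd_iff] at hq
  have hq3 : 3 ≤ Fintype.card F := by omega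
  have hp3 : 3 ≤ p := by
    have h2 := hp.two_le
    by_contra hlt
    have h3 : p = 2 := by omega
    rw [h3] at hf
    have h4 : 2 ∣ Fintype.card F := by rw [hf]; exact dvd_pow_self 2 f.ne_zero
    omega
  set q := Fintype.card F with hqd
  have hk : Fintype.card K = p ^ (3 * (f : ℕ)) := by rw [hK, hf, ← pow_mul, mul_comm]
  have hfq : 3 * (f : ℕ) ≤ q := by
    rw [hf]
    refine le_trans ?_ (Nat.pow_le_pow_left hp3 f)
    have : ∀ n : ℕ, 1 ≤ n → 3 * n ≤ 3 ^ n := by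
      intro n hn
      induction n, hn using Nat.le_induction with
      | base => norm_num
      | succ n hn ih =>
        rw [pow_succ]
        have : 1 ≤ n := hn
        omega
    exact this f f.pos
  have hk4 : 4 ≤ Fintype.card K := by
    rw [hK]
    exact le_trans (by norm_num) (Nat.pow_le_pow_left hq3 3)
  have hkodd : Odd (Fintype.card K) := by rw [hK]; exact hodd'.pow
  have hAle : Nat.card A ≤ q ^ 10 := by
    refine (card_A_le_psl hA (p := p) (f := 3 * f) (by have := f.pos; omega) hk hk4).trans ?_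
    rw [hK]
    calc 3 * (f : ℕ) * (q ^ 3 * ((q ^ 3) ^ 2 - 1)) ≤ q * (q ^ 3 * (q ^ 3) ^ 2) :=
          Nat.mul_le_mul hfq (Nat.mul_le_mul_left _ (Nat.sub_le _ _))
      _ = q ^ 10 := by ring
  have h1 := card_le_psl hs h hA hkodd hk4 hAle
  have h2 := Cfsg.Agent.ClassicalGeometry.PSL2Basic.card_PSL2_odd K hkodd
  have h3 := card_psp8 (F := F) hodd'
  rw [← card_eq_psp m, ← hqd] at h3
  rw [hK] at h1 h2
  have hr : Nat.card (Matrix.ProjectiveSpecialLinearGroup (Fin 2) K) * (2 + 4 * (q ^ 3) ^ 2) ≤ 3 * q ^ 15 := by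
    calc Nat.card (Matrix.ProjectiveSpecialLinearGroup (Fin 2) K) * (2 + 4 * (q ^ 3) ^ 2) =
          Nat.card (Matrix.ProjectiveSpecialLinearGroup (Fin 2) K) * 2 * (1 + 2 * (q ^ 3) ^ 2) := by ring
      _ = q ^ 3 * ((q ^ 3) ^ 2 - 1) * (1 + 2 * (q ^ 3) ^ 2) := by rw [h2]
      _ ≤ q ^ 3 * (q ^ 3) ^ 2 * ((q ^ 3) ^ 2 + 2 * (q ^ 3) ^ 2) := by
          refine Nat.mul_le_mul (Nat.mul_le_mul_left _ (Nat.sub_le _ _)) (Nat.add_le_add_right ?_ _)
          exact Nat.one_le_pow _ _ (Nat.pow_pos (by omega))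
      _ = 3 * q ^ 15 := by ring
  have h4 : 2 * (3 * Nat.card Q) ≤ 6 * q ^ 10 + 6 * q ^ 35 := by
    calc 2 * (3 * Nat.card Q) ≤ 2 * (3 * q ^ 10 +
          Nat.card (Matrix.ProjectiveSpecialLinearGroup (Fin 2) K) * (2 + 4 * (q ^ 3) ^ 2) * (q ^ 10) ^ 2) :=
          Nat.mul_le_mul_left _ h1
      _ ≤ 2 * (3 * q ^ 10 + 3 * q ^ 15 * (q ^ 10) ^ 2) :=
          Nat.mul_le_mul_left _ (Nat.add_le_add_left (Nat.mul_le_mul_right _ hr) _)
      _ = 6 * q ^ 10 + 6 * q ^ 35 := by ring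
  have h5 := num hq3
  have h6 := Nat.lt_of_mul_lt_mul_left h5
  rw [← h3] at h6
  omega

end Cfsg.Agent.H276.EP
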